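import Groth.Agent.RegLoc6.GeomRed
import Mathlib.FieldTheory.PurelyInseparable.PerfectClosure
import Mathlib.FieldTheory.PurelyInseparable.Exponent
import Mathlib.RingTheory.AlgebraicIndependent.TranscendenceBasis

/-!
# Purely inseparable subfields of a separable extension of transcendence degree one

If `K/k` is separable of transcendence degree one and `K/L` is purely inseparable of degree `q`, then `L` is
generated over `k` by the `q`-th powers of `K`.
-/

set_option autoImplicit false
set_option linter.style.haveILetI false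
set_option linter.unusedSectionVars false

universe u

open Module IntermediateField

noncomputable section

namespace Groth.Agent.PurelyInsepTwist

variable {k K : Type u} [Field k] [Field K] [Algebra k K] (p : ℕ) [ExpChar K p]

/-- A separable generator generates `K` over the field of `q`-th powers. -/
theorem adjoin_pow_union (s : Set K) [Algebra.IsSeparable (adjoin k s) K] (n : ℕ) :
    adjoin k (s ∪ Set.range fun x : K => x ^ p ^ n) = ⊤ := by
  let F := adjoin k s
  let E : IntermediateField F K := adjoin F (Set.range fun x : K => x ^ p ^ n)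
  haveI : Algebra.IsSeparable E K := Algebra.isSeparable_tower_top_of_isSeparable F E K
  haveI : ExpChar E p := expChar_of_injective_ringHom (algebraMap F E).injective p
  haveI : IsPurelyInseparable E K := (isPurelyInseparable_iff_pow_mem E p).2 fun x =>
    ⟨n, ⟨⟨x ^ p ^ n, subset_adjoin F _ ⟨x, rfl⟩⟩, rfl⟩⟩
  have hE : E = ⊤ := eq_top_iff.2 fun x _ => by
    obtain ⟨y, rfl⟩ := (IsPurelyInseparable.bijective_algebraMap_of_isSeparable E K).2 x
    exact y.2
  refine adjoin_adjoin_left (F := k) s (Set.range fun x : K => x ^ p ^ n) ▸ ?_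
  show E.restrictScalars k = ⊤
  rw [hE, restrictScalars_top]

/-- The degree over the field generated by the `q`-th powers is at most `q`. -/
theorem finrank_le_pow (t : K) [Algebra.IsSeparable (adjoin k ({t} : Set K)) K] (n : ℕ) :
    finrank (adjoin k (Set.range fun x : K => x ^ p ^ n)) K ≤ p ^ n ∧
      FiniteDimensional (adjoin k (Set.range fun x : K => x ^ p ^ n)) K := by
  let M := adjoin k (Set.range fun x : K => x ^ p ^ n)
  let a : M := ⟨t ^ p ^ n, subset_adjoin k _ ⟨t, rfl⟩⟩
  have hpos : 0 < p ^ n := pow_pos (expChar_pos K p) n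
  have hP : (Polynomial.X ^ p ^ n - Polynomial.C a).Monic := Polynomial.monic_X_pow_sub_C a hpos.ne'
  have hev : Polynomial.aeval t (Polynomial.X ^ p ^ n - Polynomial.C a) = 0 := by simp [a]
  have hint : IsIntegral M t := ⟨_, hP, hev⟩
  have htop : adjoin M ({t} : Set K) = ⊤ := by
    refine restrictScalars_injective k ?_
    rw [restrictScalars_top, adjoin_adjoin_left, Set.union_comm]
    exact adjoin_pow_union p {t} n
  have e := ((equivOfEq htop).trans topEquiv).toLinearEquiv
  haveI := adjoin.finiteDimensional hint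
  refine ⟨?_, LinearEquiv.finiteDimensional e⟩
  rw [← e.finrank_eq, adjoin.finrank hint]
  refine (Polynomial.natDegree_le_of_dvd (minpoly.dvd M t hev) hP.ne_zero).trans ?_
  rw [Polynomial.natDegree_X_pow_sub_C]

variable {L : Type u} [Field L] [Algebra k L] [Algebra L K] [IsScalarTower k L K]

/-- The `q`-th root map. -/
theorem exists_root [Fact p.Prime] [ExpChar k p] [IsPurelyInseparable L K] [Algebra.EssFiniteType k K]
    [Algebra.IsGeometricallyReduced k K] (hd : Algebra.trdeg k K = 1) :
    ∃ (r : ℕ) (φ : K →+* L), (∀ a, algebraMap L K (φ a) = a ^ p ^ r) ∧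
      ∀ S : Subfield L, (∀ c : k, algebraMap k L c ∈ S) → (∀ a, φ a ∈ S) → S = ⊤ := by
  haveI : ExpChar L p := expChar_of_injective_ringHom (algebraMap k L).injective p
  haveI : Algebra.EssFiniteType L K := Algebra.EssFiniteType.of_comp k L K
  haveI : FiniteDimensional L K := by
    obtain ⟨S, hS⟩ := IntermediateField.fg_top L K
    have : FiniteDimensional L (adjoin L (S : Set K)) :=
      finiteDimensional_adjoin fun x _ => IsPurelyInseparable.isIntegral' L x
    rw [hS] at this
    exact Module.Finite.equiv (topEquiv (F := L) (E := K)).toLinearEquiv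
  obtain ⟨n, hn⟩ := IsPurelyInseparable.finrank_eq_pow L K p
  have hmem : ∀ a : K, a ^ p ^ n ∈ (algebraMap L K).range := fun a => by
    have h1 := minpoly.degree_dvd (K := L) (IsPurelyInseparable.isIntegral' L a)
    rw [IsPurelyInseparable.minpoly_natDegree_eq' L p, hn] at h1
    obtain ⟨j, hj⟩ := Nat.exists_eq_add_of_le ((Nat.pow_dvd_pow_iff_le_right (Fact.out : p.Prime).one_lt).1 h1)
    rw [hj, pow_add, pow_mul]
    exact pow_mem (IsPurelyInseparable.elemExponent_def' L p a) _
  choose g hg using fun a => RingHom.mem_range.1 (hmem a)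
  have hinj : Function.Injective (algebraMap L K) := (algebraMap L K).injective
  have hq : p ^ n ≠ 0 := (pow_pos (expChar_pos K p) n).ne'
  let φ : K →+* L :=
    { toFun := g
      map_one' := hinj (by simp [hg])
      map_mul' := fun x y => hinj (by simp [hg, mul_pow])
      map_zero' := hinj (by simp [hg, zero_pow hq])
      map_add' := fun x y => hinj (by simp [hg, add_pow_expChar_pow]) }
  refine ⟨n, φ, hg, fun S hk hφ => ?_⟩
  obtain ⟨s, hs, hsep⟩ := RegLoc6.exists_separating_transcendence k K
  have hcard : Cardinal.mk s = 1 := hs.cardinalMk_eq_trdeg.trans hd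
  obtain ⟨⟨hsub⟩, ⟨⟨t, ht⟩⟩⟩ := Cardinal.eq_one_iff_unique.1 hcard
  have hst : (s : Set K) = {t} :=
    Set.eq_singleton_iff_unique_mem.2 ⟨ht, fun x hx => congrArg Subtype.val (hsub ⟨x, hx⟩ ⟨t, ht⟩)⟩
  rw [hst] at hsep
  obtain ⟨hle, hfd⟩ := finrank_le_pow (k := k) p t n
  let M := adjoin k (Set.range fun x : K => x ^ p ^ n)
  let N := (IsScalarTower.toAlgHom k L K).fieldRange
  have hN : finrank N K = p ^ n := by
    rw [← hn]
    exact (Algebra.finrank_eq_of_equiv_equiv
      ((IsScalarTower.toAlgHom k L K).equivFieldRange).toRingEquiv (RingEquiv.refl K) (by ext x; rfl)).symm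
  haveI : FiniteDimensional M K := hfd
  have hMN : M = N := eq_of_le_of_finrank_le'
    (adjoin_le_iff.2 (by rintro _ ⟨x, rfl⟩; exact hmem x)) (by rw [hN]; exact hle)
  have hk' : ∀ c : k, algebraMap k K c ∈ S.map (algebraMap L K) := fun c =>
    ⟨algebraMap k L c, hk c, (IsScalarTower.algebraMap_apply k L K c).symm⟩
  have hM : M ≤ (S.map (algebraMap L K)).toIntermediateField hk' := adjoin_le_iff.2 (by
    rintro _ ⟨x, rfl⟩
    exact ⟨φ x, hφ x, hg x⟩)
  refine eq_top_iff.2 fun l _ => ?_
  have hl : algebraMap L K l ∈ (S.map (algebraMap L K)).toIntermediateField hk' := hM (hMN ▸ ⟨l, rfl⟩)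
  obtain ⟨x, hx, hxl⟩ := hl
  exact hinj hxl ▸ hx

end Groth.Agent.PurelyInsepTwist
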