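import Groth.Agent.MorLib.RingUnivHomeo
import Groth.Agent.GrpSchLib.SmoothReduced
import Groth.Agent.QsDescend.Normal
import Mathlib.Algebra.CharP.Lemmas
import Mathlib.FieldTheory.PurelyInseparable.Basic

/-! # The twist of a scheme by a power of the Frobenius of the base field -/

set_option autoImplicit false
set_option linter.style.haveILetI false
set_option linter.unusedSectionVars false

universe u

open CategoryTheory CategoryTheory.Limits AlgebraicGeometry TopologicalSpace

noncomputable section

namespace Groth.Agent.PurelyInsepTwist

variable (k : Type u) [Field k] (p : ℕ) [Fact p.Prime] [ExpChar k p] (r : ℕ)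

/-- The `r`-th power of the Frobenius of `Spec k`. -/
abbrev frobK : Spec (CommRingCat.of k) ⟶ Spec (CommRingCat.of k) :=
  Spec.map (CommRingCat.ofHom (iterateFrobenius k p r))

theorem isIntegralHom_frobK : IsIntegralHom (frobK k p r) :=
  IsIntegralHom.SpecMap_iff.mpr fun x => by
    refine ⟨Polynomial.X ^ p ^ r - Polynomial.C x,
      Polynomial.monic_X_pow_sub_C x (pow_ne_zero _ (Fact.out : p.Prime).ne_zero), ?_⟩
    rw [Polynomial.eval₂_sub, Polynomial.eval₂_X_pow, Polynomial.eval₂_C, CommRingCat.hom_ofHom,
      iterateFrobenius_def, sub_self]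

theorem universallyInjective_frobK : UniversallyInjective (frobK k p r) :=
  (MorLib.RUH.universallyInjective_SpecMap_iff _).2 fun K _ f g hfg => RingHom.ext fun x => by
    haveI : ExpChar K p := expChar_of_injective_ringHom f.injective p
    have h : f (x ^ p ^ r) = g (x ^ p ^ r) := by simpa [iterateFrobenius_def] using congr($hfg x)
    rw [map_pow, map_pow] at h
    exact iterateFrobenius_inj K p r (by simpa [iterateFrobenius_def] using h)

theorem surjective_frobK : Surjective (frobK k p r) :=
  ⟨fun x => ⟨IsLocalRing.closedPoint k, @Subsingleton.elim _ (inferInstanceAs (Subsingleton (PrimeSpectrum k))) _ _⟩⟩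

variable {X : Scheme.{u}} (a : X ⟶ Spec (CommRingCat.of k))

/-- `X^(p^r)`. -/
abbrev tw : Scheme.{u} := pullback a (frobK k p r)

/-- The projection `X^(p^r) → X`. -/
abbrev twFst : tw k p r a ⟶ X := pullback.fst a (frobK k p r)

/-- The structure map of `X^(p^r)`. -/
abbrev twSnd : tw k p r a ⟶ Spec (CommRingCat.of k) := pullback.snd a (frobK k p r)

theorem isHomeomorph_twFst : IsHomeomorph (twFst k p r a) := by
  haveI := isIntegralHom_frobK k p r
  haveI := universallyInjective_frobK k p r
  haveI := surjective_frobK k p r
  haveI : IsIntegralHom (twFst k p r a) := MorphismProperty.pullback_fst _ _ inferInstance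
  haveI : UniversallyInjective (twFst k p r a) :=
    MorphismProperty.pullback_fst (P := @UniversallyInjective) _ _ ‹_›
  haveI : Surjective (twFst k p r a) :=
    MorphismProperty.pullback_fst (P := @Surjective) _ _ ‹_›
  exact isHomeomorph_iff_continuous_isClosedMap_bijective.2
    ⟨(twFst k p r a).continuous, (twFst k p r a).isClosedMap, (twFst k p r a).injective,
      (twFst k p r a).surjective⟩

variable [Smooth a]

theorem smooth_twSnd : Smooth (twSnd k p r a) := MorphismProperty.pullback_snd _ _ inferInstance

theorem isIntegral_tw [IsIntegral X] : IsIntegral (tw k p r a) := by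
  haveI := smooth_twSnd k p r a
  haveI : AlgebraicGeometry.IsReduced (tw k p r a) := GrpSchLib.isReduced_of_smooth_field (twSnd k p r a)
  haveI : IrreducibleSpace (tw k p r a) :=
    ((isHomeomorph_twFst k p r a).homeomorph _).irreducibleSpace_iff.2 inferInstance
  exact isIntegral_of_irreducibleSpace_of_isReduced _

theorem isNormalScheme_tw : Pi1.IsNormalScheme (tw k p r a) := by
  haveI := smooth_twSnd k p r a
  refine QsDescend.isNormalScheme_of_smooth (fun s => ?_) (twSnd k p r a)
  haveI : IsIntegral (Spec (CommRingCat.of k)) := inferInstance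
  have hf : IsField ((Spec (CommRingCat.of k)).presheaf.stalk s) :=
    MulEquiv.isField (Field.toIsField (Spec (CommRingCat.of k)).functionField)
      ((Spec (CommRingCat.of k)).presheaf.stalkCongr (Inseparable.of_eq
        (@Subsingleton.elim _ (inferInstanceAs (Subsingleton (PrimeSpectrum k))) s
          (genericPoint (Spec (CommRingCat.of k)))))).commRingCatIsoToRingEquiv.toMulEquiv
  letI := hf.toField
  exact ⟨inferInstance, inferInstance⟩

end Groth.Agent.PurelyInsepTwist
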