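import Groth.Agent.PurelyInsepTwist.Field
import Groth.Agent.PurelyInsepTwist.FF
import Groth.Agent.PurelyInsepTwist.Twist
import Groth.Agent.CurveEmbed.Points
import Groth.Agent.CurveFinMap.Degree
import Groth.Agent.CurveFrob.Basic
import Groth.Agent.H23.RatExtend
import Groth.Agent.S1544
import Groth.Agent.S4808
import Groth.Prelude.Def_Curves

/-!
# Purely inseparable images of smooth curves are Frobenius twists
-/

set_option autoImplicit false
set_option linter.style.haveILetI false
set_option linter.unusedSectionVars false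
set_option backward.isDefEq.respectTransparency false
set_option backward.isDefEq.respectTransparency.types false
set_option maxHeartbeats 800000

universe u

open CategoryTheory CategoryTheory.Limits AlgebraicGeometry TopologicalSpace

noncomputable section

namespace Groth.Agent.PurelyInsepTwist

open Groth.Agent.CurveLuroth

/-- All local rings of a normal curve are valuation rings. -/
theorem valuationRing_of_normal {k : Type u} [Field k] (Y : Scheme.{u}) [Y.Over (Spec (CommRingCat.of k))]
    [IsIntegral Y] [IsProper (Y ↘ Spec (CommRingCat.of k))] (hdY : topologicalKrullDim Y = 1)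
    (hnY : Pi1.IsNormalScheme Y) (y : Y) : ValuationRing (Y.presheaf.stalk y) := by
  haveI := CurveCohLib.isNoetherian_of_proper (k := k) (X := Y)
  by_cases hy : IsClosed ({y} : Set Y)
  · haveI := CurveEmbed.isDVR_of_normal (k := k) hdY hy (hnY y).2
    infer_instance
  · obtain rfl := CurveCohLib.eq_genericPoint_of_not_isClosed hdY hy
    exact inferInstanceAs (ValuationRing Y.functionField)

/-- A normal curve under a smooth one with purely inseparable function field extension is a Frobenius
twist of it. -/
theorem exists_iso {k : Type u} [Field k] (p : ℕ) [Fact p.Prime] [ExpChar k p]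
    (X Y : Scheme.{u}) [X.Over (Spec (CommRingCat.of k))] [Y.Over (Spec (CommRingCat.of k))]
    [IsIntegral X] [IsIntegral Y] [IsProper (X ↘ Spec (CommRingCat.of k))]
    [IsProper (Y ↘ Spec (CommRingCat.of k))]
    (hdX : topologicalKrullDim X = 1) (hdY : topologicalKrullDim Y = 1)
    (hnY : Pi1.IsNormalScheme Y) [Smooth (X ↘ Spec (CommRingCat.of k))]
    (f : X ⟶ Y) (hf : f ≫ (Y ↘ Spec (CommRingCat.of k)) = X ↘ Spec (CommRingCat.of k))
    (e : f (genericPoint X) = genericPoint Y)
    (hpi : letI := ((Y.presheaf.stalkSpecializes (specializes_of_eq e) ≫ f.stalkMap (genericPoint X)).hom).toAlgebra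
      IsPurelyInseparable Y.functionField X.functionField) :
    ∃ (r : ℕ) (i : Y ≅ tw k p r (X ↘ Spec (CommRingCat.of k))),
      i.hom ≫ twSnd k p r (X ↘ Spec (CommRingCat.of k)) = Y ↘ Spec (CommRingCat.of k) := by
  letI aK : Algebra k X.functionField := CurveFF.ffAlg k X
  letI aL : Algebra k Y.functionField := CurveFF.ffAlg k Y
  let ι := Y.presheaf.stalkSpecializes (specializes_of_eq e) ≫ f.stalkMap (genericPoint X)
  letI : Algebra Y.functionField X.functionField := ι.hom.toAlgebra
  let a := X ↘ Spec (CommRingCat.of k)
  let b := Y ↘ Spec (CommRingCat.of k)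
  have hι : ffC b ≫ ι = ffC a := by
    apply Spec.map_injective
    rw [Spec.map_comp, spec_ffC, spec_ffC]
    simp only [ι, Spec.map_comp, Category.assoc]
    rw [Scheme.SpecMap_stalkSpecializes_fromSpecStalk_assoc,
      Scheme.SpecMap_stalkMap_fromSpecStalk_assoc, hf]
  have hkK : ∀ c, algebraMap k X.functionField c = (ffC a).hom c := fun c => (CurveFrob.ffC_apply X c).symm
  have hkL : ∀ c, algebraMap k Y.functionField c = (ffC b).hom c := fun c => (CurveFrob.ffC_apply Y c).symm
  haveI : IsScalarTower k Y.functionField X.functionField := IsScalarTower.of_algebraMap_eq fun c => by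
    rw [hkK, hkL, ← hι]
    rfl
  haveI : IsPurelyInseparable Y.functionField X.functionField := hpi
  haveI : Algebra.IsGeometricallyReduced k X.functionField :=
    (S1544.result k X).1 (GrpSchLib.geometricallyReduced_of_smooth a)
  haveI := essFiniteType k X
  haveI : ExpChar X.functionField p :=
    expChar_of_injective_ringHom (algebraMap k X.functionField).injective p
  obtain ⟨r, φ, hφ, hgen⟩ := exists_root p (k := k) (K := X.functionField) (L := Y.functionField)
    (trdeg_eq_one k X hdX)
  haveI := smooth_twSnd k p r a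
  haveI := isIntegral_tw k p r a
  haveI : IsProper (twSnd k p r a) := MorphismProperty.pullback_snd _ _ inferInstance
  haveI : (tw k p r a).IsSeparated :=
    ⟨by rw [← Limits.terminal.comp_from (twSnd k p r a)]; infer_instance⟩
  have hh := isHomeomorph_twFst k p r a
  -- the map on the generic point
  have hC : ffC a ≫ CommRingCat.ofHom φ = CommRingCat.ofHom (iterateFrobenius k p r) ≫ ffC b := by
    ext c
    refine (algebraMap Y.functionField X.functionField).injective ?_
    show algebraMap _ _ (φ ((ffC a).hom c)) = algebraMap _ _ ((ffC b).hom (iterateFrobenius k p r c))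
    rw [hφ, ← hkL, ← hkK, ← IsScalarTower.algebraMap_apply, iterateFrobenius_def, map_pow]
  have hcond : (Spec.map (CommRingCat.ofHom φ) ≫ X.fromSpecStalk (genericPoint X)) ≫ a =
      Spec.map (ffC b) ≫ frobK k p r := by
    rw [Category.assoc, ← spec_ffC, ← Spec.map_comp, hC, Spec.map_comp]
  let l : Spec Y.functionField ⟶ tw k p r a := pullback.lift _ _ hcond
  have h₀ : l ≫ twSnd k p r a = Y.fromSpecStalk _ ≫ b := by
    rw [← spec_ffC]; exact pullback.lift_snd _ _ _
  obtain ⟨W, hW, H, hsub, hH, hH'⟩ := H23.RatExtend.extend b (twSnd k p r a) _ h₀ Set.univ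
    fun q _ => H23.RatExtend.exists_lift b (twSnd k p r a) _ h₀ q (valuationRing_of_normal (k := k) Y hdY hnY q)
  haveI : IsIso W.ι := by
    have : Surjective W.ι := ⟨fun y => ⟨⟨y, hsub trivial⟩, rfl⟩⟩
    exact (isIso_iff_isOpenImmersion_and_surjective _).2 ⟨inferInstance, this⟩
  let G : Y ⟶ tw k p r a := inv W.ι ≫ H
  have hGb : G ≫ twSnd k p r a = b := by rw [Category.assoc, hH, IsIso.inv_hom_id_assoc]
  have hG : Y.fromSpecStalk (genericPoint Y) ≫ G = l := by
    rw [← hH', ← Scheme.Opens.fromSpecStalkOfMem_ι W (genericPoint Y) hW, Category.assoc,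
      IsIso.hom_inv_id_assoc]
  have efst : twFst k p r a (genericPoint (tw k p r a)) = genericPoint X := by
    obtain ⟨z, hz⟩ := hh.surjective (genericPoint X)
    refine ((genericPoint_spec X).specializes (Set.mem_univ _)).antisymm ?_ |>.eq.symm
    rw [← hz]
    exact ((genericPoint_spec (tw k p r a)).specializes (Set.mem_univ z)).map hh.continuous
  haveI : Subsingleton ↥(Spec X.functionField) :=
    inferInstanceAs (Subsingleton (PrimeSpectrum X.functionField))
  have eG : G (genericPoint Y) = genericPoint (tw k p r a) := by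
    refine hh.injective ?_
    have h1 := congr($(hG =≫ twFst k p r a) (IsLocalRing.closedPoint Y.functionField))
    rw [pullback.lift_fst] at h1
    simp only [Scheme.Hom.comp_apply] at h1
    erw [Scheme.fromSpecStalk_closedPoint] at h1
    refine h1.trans ?_
    rw [efst]
    exact (congrArg (X.fromSpecStalk (genericPoint X)) (Subsingleton.elim _ _)).trans
      Scheme.fromSpecStalk_closedPoint
  let ψ : (tw k p r a).functionField ⟶ Y.functionField :=
    (tw k p r a).presheaf.stalkSpecializes (specializes_of_eq eG) ≫ G.stalkMap (genericPoint Y)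
  have hψ : Spec.map ψ ≫ (tw k p r a).fromSpecStalk (genericPoint (tw k p r a)) = l := by
    rw [Spec.map_comp, Category.assoc, Scheme.SpecMap_stalkSpecializes_fromSpecStalk,
      Scheme.SpecMap_stalkMap_fromSpecStalk, hG]
  let u : X.functionField ⟶ (tw k p r a).functionField :=
    X.presheaf.stalkSpecializes (specializes_of_eq efst) ≫ (twFst k p r a).stalkMap _
  have hu : u ≫ ψ = CommRingCat.ofHom φ := by
    apply Spec.map_injective
    rw [← cancel_mono (X.fromSpecStalk (genericPoint X))]
    simp only [u, Spec.map_comp, Category.assoc]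
    rw [Scheme.SpecMap_stalkSpecializes_fromSpecStalk, Scheme.SpecMap_stalkMap_fromSpecStalk,
      reassoc_of% hψ]
    exact pullback.lift_fst _ _ _
  have hk : ffC (twSnd k p r a) ≫ ψ = ffC b := by
    apply Spec.map_injective
    rw [Spec.map_comp, spec_ffC, reassoc_of% hψ]
    exact pullback.lift_snd _ _ _
  have hsurj : Function.Surjective ψ.hom := RingHom.fieldRange_eq_top_iff.1 <|
    hgen ψ.hom.fieldRange (fun c => ⟨_, (hkL c).symm ▸ congr($hk c)⟩) fun x => ⟨_, congr($hu x)⟩
  haveI : IsIso ψ := (ConcreteCategory.isIso_iff_bijective ψ).2 ⟨ψ.hom.injective, hsurj⟩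
  letI : (tw k p r a).Over (Spec (CommRingCat.of k)) := ⟨twSnd k p r a⟩
  haveI : IsProper ((tw k p r a) ↘ Spec (CommRingCat.of k)) := ‹IsProper (twSnd k p r a)›
  have hdT : topologicalKrullDim (tw k p r a) = 1 := (hh.topologicalKrullDim_eq _).trans hdX
  haveI : IsFinite G := CurveFinMap.isFinite_of_generic (k := k) hdY hdT G hGb eG
  haveI : IsIso ((tw k p r a).presheaf.stalkSpecializes (specializes_of_eq eG)) :=
    BirNormal.isIso_stalkSpecializes_of_eq eG _
  haveI : IsIso G := S4808.result (fun y => (isNormalScheme_tw k p r a y).2) G eG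
    (IsIso.of_isIso_comp_left ((tw k p r a).presheaf.stalkSpecializes (specializes_of_eq eG)) _)
  exact ⟨r, asIso G, hGb⟩

end Groth.Agent.PurelyInsepTwist
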